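import Cfsg.Agent.H238.E8.Inj
import Cfsg.Agent.H114.E8L.Stmt
import Cfsg.Agent.H908.E8L.BConjE8

/-!
# S5925: the boxes B2, B, C in the form of `H114/E8L/Stmt.lean` (helper238)
-/

set_option autoImplicit false

namespace Cfsg.Agent.H238.E8

open Matrix Cfsg Cfsg.Lie Cfsg.Agent.H114.E8L

theorem moS_eq : MoS = Cfsg.Agent.H908.E8L.Mo := Subtype.ext rfl
theorem frS_eq : FrS = Cfsg.Agent.H908.E8L.Fr := Subtype.ext rfl

theorem box_B2 : Cfsg.Agent.H114.E8L.B2 := by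
  intro x hx hx1
  show ∃ g : G3, g * x * g⁻¹ = ph2 (ZMod 3) MoS
  rw [moS_eq]
  exact Cfsg.Agent.H908.E8L.conj_mo x hx hx1

theorem box_B_aux {m S : SpecialLinearGroup (Fin 5) (ZMod 3)} (hc : S * m = m * S) {g : G3}
    (h : ∃ (e : SpecialLinearGroup (Fin 5) (ZMod 3)) (i : ℕ), g = ph1 (ZMod 3) e * ph2 (ZMod 3) S ^ i) :
    ∃ (e s : SpecialLinearGroup (Fin 5) (ZMod 3)), s * m = m * s ∧ g = ph1 (ZMod 3) e * ph2 (ZMod 3) s := by
  obtain ⟨e, i, he⟩ := h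
  exact ⟨e, S ^ i, (Commute.pow_left (show Commute S m from hc) i).eq, by rw [map_pow]; exact he⟩

theorem box_B : BB := by
  intro g hg
  have hg' : g * ph2 (ZMod 3) MoS = ph2 (ZMod 3) MoS * g := hg
  rw [moS_eq] at hg' ⊢
  exact box_B_aux Cfsg.Agent.H908.E8L.sg_mo (cent_x0' hg')

theorem box_C : BC := by
  intro x y hx hx1 hy _ hxy
  obtain ⟨g, h1, h2⟩ := Cfsg.Agent.H908.E8L.bconj_e8 x y hx hx1 hy hxy
  refine ⟨g, ?_, ?_⟩
  · show _ = ph2 (ZMod 3) MoS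
    rw [moS_eq]; exact h1
  · show _ = ph2 (ZMod 3) FrS ∨ _ = ph2 (ZMod 3) FrS * ph1 (ZMod 3) FrS
    rw [frS_eq]; exact h2

end Cfsg.Agent.H238.E8
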