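import Cfsg.Agent.H238.E8.Up
import Mathlib

/-!
# S5925: the descent from the image of `iota` to the fixed vectors over `F₃` (helper238)
-/

set_option autoImplicit false
set_option linter.unusedSectionVars false
set_option linter.style.longLine false

namespace Cfsg.Agent.H238.E8

open Matrix Cfsg Cfsg.Lie Cfsg.Agent.ChevalleyStructure Cfsg.Agent.ChevalleyStructure.Elts
open Cfsg.Agent.H992.E8X Cfsg.Agent.H576.E8L
open Cfsg.Agent.H114.E8L (G3 L3 ac)
open Cfsg.Agent.H540.E8C (KK)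
open Cfsg.Agent.GpExc.Field (emb coe_emb)
open Cfsg.Agent.H879.E83 (Mt)

/-- every vector fixed by `YY` lies in the image of `iota` -/
theorem iota_surj {K : Type} [Field K] [CharP K 3] {g : K} (hg : g ^ 4 = 1 - g) {v : chevE8.Idx → K}
    (hv : En (YY (wU g hg) (wU_pow hg)) v = v) :
    ∃ A0 A1 : Mt K, A0.trace = 0 ∧ A1.trace = 0 ∧ iota g (A0, A1) = v := by
  obtain ⟨A0, A1, h0, h1, h⟩ := io_surj (supp_of_fix (wU_pow hg) (wU_ne hg) hv)
  have hg0 : g ≠ 0 := Cfsg.Agent.H879.E83.g_ne hg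
  have key : ∀ (r : Fin 5 → ℕ) (A : Mt K), ∃ B : Mt K, cj r g B = A := by
    intro r A
    refine ⟨ddi r g * A * dd r g, ?_⟩
    rw [cj_eq]
    have h2 := dd_ddi r hg0
    calc dd r g * (ddi r g * A * dd r g) * ddi r g = (dd r g * ddi r g) * A * (dd r g * ddi r g) := by
          simp only [mul_assoc]
      _ = A := by rw [h2, one_mul, mul_one]
  obtain ⟨B0, hB0⟩ := key re0 A0
  obtain ⟨B1, hB1⟩ := key re1 A1
  refine ⟨B0, B1, ?_, ?_, ?_⟩
  · rw [← cj_trace re0 hg0, hB0, h0]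
  · rw [← cj_trace re1 hg0, hB1, h1]
  · rw [iota_apply]
    show io K (cj re0 g B0, cj re1 g B1) = v
    rw [hB0, hB1, h]

theorem En_emb (a : G3) (v : L3) : En (emb hE8 f3 a) (fun i => f3 (v i)) = fun i => f3 (ac a v i) := by
  rw [En_apply, coe_emb]
  funext i
  show ∑ j, f3 _ * f3 (v j) = f3 (∑ j, _ * v j)
  rw [map_sum]
  exact Finset.sum_congr rfl fun j _ => (map_mul f3 _ _).symm

/-- elements which agree on the image of `iota` agree on the vectors fixed by `y` over `F₃` -/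
theorem down {g : KK} (hg : g ^ 4 = 1 - g) {z : ↥(chevE8.group KK)} {y : G3}
    (hy : z⁻¹ * emb hE8 f3 y * z = YY (wU g hg) (wU_pow hg)) {t t' : G3}
    (h : ∀ A0 A1 : Mt KK, A0.trace = 0 → A1.trace = 0 →
      (((z⁻¹ * emb hE8 f3 t * z : ↥(chevE8.group KK)) : GL chevE8.Idx KK) : Matrix chevE8.Idx chevE8.Idx KK) *ᵥ
        iota g (A0, A1) =
      (((z⁻¹ * emb hE8 f3 t' * z : ↥(chevE8.group KK)) : GL chevE8.Idx KK) : Matrix chevE8.Idx chevE8.Idx KK) *ᵥ
        iota g (A0, A1)) (v : L3) (hv : ac y v = v) : ac t v = ac t' v := by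
  obtain ⟨u, hu⟩ : ∃ u, En z u = fun i => f3 (v i) := ⟨En z⁻¹ fun i => f3 (v i), by
    rw [← En_mul, mul_inv_cancel, map_one]; rfl⟩
  have h1 : En (YY (wU g hg) (wU_pow hg)) u = u := by
    have h2 : En z (En (z⁻¹ * emb hE8 f3 y * z) u) = En z u := by
      rw [← En_key, hu, En_emb, hv]
    have h3 := congrArg (En z⁻¹) h2
    rwa [En_inv, En_inv, hy] at h3
  obtain ⟨A0, A1, a0, a1, h4⟩ := iota_surj hg h1
  have h5 : En (z⁻¹ * emb hE8 f3 t * z) u = En (z⁻¹ * emb hE8 f3 t' * z) u := by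
    rw [← h4]
    exact h A0 A1 a0 a1
  have h6 := congrArg (En z) h5
  rw [← En_key, ← En_key, hu, En_emb, En_emb] at h6
  funext i
  exact f3.injective (congrFun h6 i)

end Cfsg.Agent.H238.E8
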