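import Cfsg.Agent.H92.QS.StHom
import Cfsg.Agent.H992.E8X.Sig
import Mathlib

/-!
# The matrix frame `SL₅(K) × SL₅(K) → E₈(K)` (helper238)

* `rt1`, `sg1` : the `A₄` of the chain `α₁ α₃ α₄ α₂`; `rt2`, `sg2` : the `A₄` of the chain `-θ α₈ α₇ α₆`;
* `ph1 K`, `ph2 K : SL₅(K) →* E₈(K)`, every field `K`, with `ph_i (t_ij(c)) = X (rt_i i j) (sg_i i j * c)`;
* the images commute; compatibility with field embeddings and with the Frobenius map.
-/

set_option autoImplicit false

namespace Cfsg.Agent.H238.E8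

open Matrix Cfsg Cfsg.Lie Cfsg.Agent.ChevalleyStructure Cfsg.Agent.ChevalleyStructure.Elts
open Cfsg.Agent.TitsThree.KExcRT Cfsg.Agent.AGraded
open Cfsg.Agent.H992.E8X
open Cfsg.Agent.GpExc.Field (emb emb_injective glMap glMap_xG coe_emb)
open Cfsg.Agent.BpExc.FamUntw (phi)

/-- roots of the first `A₄` (`rt1 i j` for `i ≠ j`) -/
def rt1 : Fin 5 → Fin 5 → ℕ := ![![0, 162, 163, 164, 169], ![77, 0, 135, 136, 147], ![76, 104, 0, 130, 142], ![75, 103, 109, 0, 141], ![70, 92, 97, 98, 0]]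
/-- signs of the first `A₄` -/
def sg1 : Fin 5 → Fin 5 → ℤ := ![![1, 1, -1, 1, -1], ![1, 1, 1, -1, 1], ![-1, 1, 1, 1, 1], ![1, -1, 1, 1, 1], ![-1, 1, 1, 1, 1]]
/-- roots of the second `A₄` (`rt2 i j` for `i ≠ j`) -/
def rt2 : Fin 5 → Fin 5 → ℕ := ![![0, 0, 1, 2, 3], ![239, 0, 120, 122, 125], ![238, 119, 0, 121, 124], ![237, 117, 118, 0, 123], ![236, 114, 115, 116, 0]]
/-- signs of the second `A₄` -/
def sg2 : Fin 5 → Fin 5 → ℤ := ![![1, 1, 1, 1, 1], ![1, 1, 1, 1, 1], ![1, 1, 1, 1, 1], ![1, 1, 1, 1, 1], ![1, 1, 1, 1, 1]]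

theorem ta1 : RTa chevE8 rt1 := by decide +kernel
theorem tb1 : RTb chevE8 rt1 sg1 := by decide +kernel
theorem tc1 : RTc chevE8 rt1 := by decide +kernel
theorem td1 : RTd sg1 := by decide +kernel
theorem ta2 : RTa chevE8 rt2 := by decide +kernel
theorem tb2 : RTb chevE8 rt2 sg2 := by decide +kernel
theorem tc2 : RTc chevE8 rt2 := by decide +kernel
theorem td2 : RTd sg2 := by decide +kernel
theorem ts1 : ∀ a b, a ≠ b → sg1 b a = sg1 a b := by decide +kernel
theorem ts2 : ∀ a b, a ≠ b → sg2 b a = sg2 a b := by decide +kernel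
theorem tn1 : ∀ a b, a ≠ b → rt1 b a = chevE8.neg (rt1 a b) := by decide +kernel
theorem tn2 : ∀ a b, a ≠ b → rt2 b a = chevE8.neg (rt2 a b) := by decide +kernel
theorem tcross : ∀ a b c d, a ≠ b → c ≠ d → Cm (rt2 c d) (rt1 a b) = true := by decide +kernel

theorem rt1_lt (i j : Fin 5) : rt1 i j < 240 := by revert i j; decide +kernel
theorem rt2_lt (i j : Fin 5) : rt2 i j < 240 := by revert i j; decide +kernel

section
variable (K : Type*) [Field K]

theorem exists_ph {r : Fin 5 → Fin 5 → ℕ} {s : Fin 5 → Fin 5 → ℤ} (ha : RTa chevE8 r) (hb : RTb chevE8 r s)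
    (hc : RTc chevE8 r) (hd : RTd s) (hsym : ∀ a b, a ≠ b → s b a = s a b)
    (hneg : ∀ a b, a ≠ b → r b a = chevE8.neg (r a b)) :
    ∃ φ : SpecialLinearGroup (Fin 5) K →* ↥(chevE8.group K), ∀ i j (hij : i ≠ j) c,
      φ (SpecialLinearGroup.transvection hij c) = X (r i j) ((s i j : K) * c) := by
  obtain ⟨φ, hφ⟩ := Cfsg.Agent.H92.QS.exists_hom_St (n := 2) (K := K) ha hb hc hd hsym hneg
  refine ⟨((StTheta.thetaGL hE8 K).codRestrict (chevE8.group K) (StTheta.thetaGL_mem hE8)).comp φ, ?_⟩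
  intro i j hij c
  apply Subtype.ext
  show StTheta.thetaGL hE8 K (φ _) = _
  rw [hφ, StTheta.thetaGL_stGen]
  rfl

/-- the first factor -/
noncomputable def ph1 : SpecialLinearGroup (Fin 5) K →* ↥(chevE8.group K) :=
  (exists_ph K ta1 tb1 tc1 td1 ts1 tn1).choose

/-- the second factor -/
noncomputable def ph2 : SpecialLinearGroup (Fin 5) K →* ↥(chevE8.group K) :=
  (exists_ph K ta2 tb2 tc2 td2 ts2 tn2).choose

theorem ph1_tv {i j : Fin 5} (hij : i ≠ j) (c : K) :
    ph1 K (SpecialLinearGroup.transvection hij c) = X (rt1 i j) ((sg1 i j : K) * c) :=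
  (exists_ph K ta1 tb1 tc1 td1 ts1 tn1).choose_spec i j hij c

theorem ph2_tv {i j : Fin 5} (hij : i ≠ j) (c : K) :
    ph2 K (SpecialLinearGroup.transvection hij c) = X (rt2 i j) ((sg2 i j : K) * c) :=
  (exists_ph K ta2 tb2 tc2 td2 ts2 tn2).choose_spec i j hij c

/-- induction over transvections -/
theorem tv_ind {K : Type*} [Field K] (P : SpecialLinearGroup (Fin 5) K → Prop)
    (h1 : ∀ i j (hij : i ≠ j) c, P (SpecialLinearGroup.transvection hij c)) (h2 : ∀ A B, P A → P B → P (A * B))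
    (A : SpecialLinearGroup (Fin 5) K) : P A :=
  Cfsg.Agent.LieClassical.SLGen.transvection_induction P h1 (fun A B hA hB => h2 A B hA hB) A

theorem ph_comm (A B : SpecialLinearGroup (Fin 5) K) : Commute (ph1 K A) (ph2 K B) := by
  refine tv_ind (fun A => Commute (ph1 K A) (ph2 K B)) ?_ ?_ A
  · intro i j hij c
    refine tv_ind (fun B => Commute (ph1 K _) (ph2 K B)) ?_ ?_ B
    · intro i' j' hij' c'
      rw [ph1_tv, ph2_tv]
      exact X_commute (rt2_lt i' j') (rt1_lt i j) (tcross i j i' j' hij hij') _ _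
    · intro A B hA hB
      rw [map_mul]
      exact hA.mul_right hB
  · intro A B hA hB
    rw [map_mul]
    exact hA.mul_left hB

variable {K} {K' : Type*} [Field K'] (f : K →+* K')

theorem emb_X (r : ℕ) (c : K) : emb hE8 f (X r c) = X r (f c) := by
  apply Subtype.ext
  rw [coe_emb]
  exact glMap_xG hE8 f r c

theorem map_tv {i j : Fin 5} (hij : i ≠ j) (c : K) :
    SpecialLinearGroup.map f (SpecialLinearGroup.transvection hij c) = SpecialLinearGroup.transvection hij (f c) := by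
  apply Subtype.ext
  show (Matrix.transvection i j c).map f = Matrix.transvection i j (f c)
  ext a b
  simp only [Matrix.transvection, Matrix.map_apply, Matrix.add_apply, map_add, Matrix.one_apply, Matrix.single_apply]
  split_ifs <;> simp

theorem emb_ph1 (A : SpecialLinearGroup (Fin 5) K) :
    emb hE8 f (ph1 K A) = ph1 K' (SpecialLinearGroup.map f A) := by
  refine tv_ind (fun A => emb hE8 f (ph1 K A) = ph1 K' (SpecialLinearGroup.map f A)) ?_ ?_ A
  · intro i j hij c
    rw [map_tv, ph1_tv, ph1_tv, emb_X, map_mul, map_intCast]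
  · intro A B hA hB
    rw [map_mul, map_mul, map_mul, map_mul, hA, hB]

theorem emb_ph2 (A : SpecialLinearGroup (Fin 5) K) :
    emb hE8 f (ph2 K A) = ph2 K' (SpecialLinearGroup.map f A) := by
  refine tv_ind (fun A => emb hE8 f (ph2 K A) = ph2 K' (SpecialLinearGroup.map f A)) ?_ ?_ A
  · intro i j hij c
    rw [map_tv, ph2_tv, ph2_tv, emb_X, map_mul, map_intCast]
  · intro A B hA hB
    rw [map_mul, map_mul, map_mul, map_mul, hA, hB]

end

section Frob
variable {k : Type*} [Field k] {p : ℕ} [Fact p.Prime] [CharP k p] [PerfectRing k p] {n : ℕ}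

theorem phi_ph1 (A : SpecialLinearGroup (Fin 5) k) :
    phi chevE8 k p n (ph1 k A) = ph1 k (SpecialLinearGroup.map (iterateFrobenius k p n) A) := by
  refine tv_ind (fun A => phi chevE8 k p n (ph1 k A) = ph1 k (SpecialLinearGroup.map (iterateFrobenius k p n) A)) ?_ ?_ A
  · intro i j hij c
    rw [map_tv, ph1_tv, ph1_tv, phi_X, mul_pow, intCast_pow, iterateFrobenius_def]
  · intro A B hA hB
    rw [map_mul, map_mul, map_mul, map_mul, hA, hB]

theorem phi_ph2 (A : SpecialLinearGroup (Fin 5) k) :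
    phi chevE8 k p n (ph2 k A) = ph2 k (SpecialLinearGroup.map (iterateFrobenius k p n) A) := by
  refine tv_ind (fun A => phi chevE8 k p n (ph2 k A) = ph2 k (SpecialLinearGroup.map (iterateFrobenius k p n) A)) ?_ ?_ A
  · intro i j hij c
    rw [map_tv, ph2_tv, ph2_tv, phi_X, mul_pow, intCast_pow, iterateFrobenius_def]
  · intro A B hA hB
    rw [map_mul, map_mul, map_mul, map_mul, hA, hB]

end Frob

end Cfsg.Agent.H238.E8
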