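import Cfsg.Agent.H238.E8.Boxes
import Cfsg.Agent.H138.E8L.Zed
import Cfsg.Agent.H239.E8P.P7
import Cfsg.Agent.H576.E8L.PN
import Mathlib

/-!
# S5925: from an element `t` of `E₈(3)` to the structure `PNine` over the algebraic closure (helper238)
-/

set_option autoImplicit false
set_option linter.unusedSectionVars false
set_option linter.style.longLine false

namespace Cfsg.Agent.H238.E8

open Matrix Cfsg Cfsg.Lie Cfsg.Agent.ChevalleyStructure Cfsg.Agent.ChevalleyStructure.Elts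
open Cfsg.Agent.H992.E8X Cfsg.Agent.H576.E8L
open Cfsg.Agent.H114.E8L (G3 L3 ac MoS FrS)
open Cfsg.Agent.H791.E8L (Rel)
open Cfsg.Agent.H908.E8L (Mo Fr)
open Cfsg.Agent.H183.E8F (NN)
open Cfsg.Agent.H540.E8C (KK)
open Cfsg.Agent.GpExc.Field (emb coe_emb)
open Cfsg.Agent.BpExc.FamUntw (phi)
open Cfsg.Agent.H879.E83 (PNine Mh Q2 sX Mt)

theorem x0_eq : Cfsg.Agent.H114.E8L.x0 = ph2 (ZMod 3) Mo := by
  show ph2 (ZMod 3) MoS = _
  rw [moS_eq]

theorem y0_eq : Cfsg.Agent.H114.E8L.y0 = ph2 (ZMod 3) Fr * ph1 (ZMod 3) Fr := by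
  show ph2 (ZMod 3) FrS * ph1 (ZMod 3) FrS = _
  rw [frS_eq]

/-- base change of a matrix, tested by a functional -/
theorem dual_mulVec {F K : Type*} [Field F] [Field K] [Algebra F K] {n : Type*} [Fintype n] (φ : K →ₗ[F] F)
    (A : Matrix n n F) (v : n → K) :
    (fun i => φ ((A.map (algebraMap F K) *ᵥ v) i)) = A *ᵥ fun i => φ (v i) := by
  funext i
  simp only [Matrix.mulVec, dotProduct, Matrix.map_apply, map_sum]
  refine Finset.sum_congr rfl fun j _ => ?_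
  rw [← Algebra.smul_def, map_smul, smul_eq_mul]

/-- a linear identity on fixed vectors over `F` holds over `K` -/
theorem sum_base {F K : Type*} [Field F] [Field K] [Algebra F K] {n : Type*} [Fintype n] (A B : Matrix n n F)
    (C : ℕ → Matrix n n F) (m : ℕ) (h : ∀ v : n → F, A *ᵥ v = v → B *ᵥ v = v → v + ∑ i ∈ Finset.range m, C i *ᵥ v = 0)
    (v : n → K) (h1 : A.map (algebraMap F K) *ᵥ v = v) (h2 : B.map (algebraMap F K) *ᵥ v = v) :
    v + ∑ i ∈ Finset.range m, (C i).map (algebraMap F K) *ᵥ v = 0 := by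
  funext j
  rw [Pi.zero_apply]
  refine (Module.forall_dual_apply_eq_zero_iff F _).1 fun φ => ?_
  have e1 := dual_mulVec φ A v
  have e2 := dual_mulVec φ B v
  rw [h1] at e1
  rw [h2] at e2
  have h3 := congrFun (h (fun i => φ (v i)) e1.symm e2.symm) j
  rw [Pi.add_apply, Finset.sum_apply, Pi.zero_apply] at h3
  rw [Pi.add_apply, Finset.sum_apply, map_add, map_sum, ← h3]
  congr 1
  refine Finset.sum_congr rfl fun i _ => ?_
  exact congrFun (dual_mulVec φ (C i) v) j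

theorem sX_apply {K V : Type*} [Field K] [AddCommGroup V] [Module K V] (A : Module.End K V) (v : V) :
    sX A v = ∑ i ∈ Finset.range 11, (A ^ i) v := by
  unfold sX
  simp only [Finset.sum_range_succ, Finset.sum_range_zero, LinearMap.add_apply, pow_zero, pow_one, zero_add]

theorem En_mul (a b : ↥(chevE8.group KK)) (v : chevE8.Idx → KK) : En (a * b) v = En a (En b v) := by
  rw [map_mul]; rfl

theorem En_inv (z : ↥(chevE8.group KK)) (v : chevE8.Idx → KK) : En z⁻¹ (En z v) = v := by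
  rw [← En_mul, inv_mul_cancel, map_one]; rfl

theorem En_key (z a : ↥(chevE8.group KK)) (v : chevE8.Idx → KK) : En a (En z v) = En z (En (z⁻¹ * a * z) v) := by
  rw [← En_mul, ← En_mul]
  have : a * z = z * (z⁻¹ * a * z) := by group
  rw [this]

theorem hsum_emb {x y t : G3}
    (hQ : ∀ v : L3, ac x v = v → ac y v = v → v + ∑ i ∈ Finset.range 11, ac (x ^ i) (ac t v) = 0)
    (v : chevE8.Idx → KK) (hx : En (emb hE8 f3 x) v = v) (hy : En (emb hE8 f3 y) v = v) :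
    v + ∑ i ∈ Finset.range 11, En (emb hE8 f3 (x ^ i * t)) v = 0 := by
  have e : ∀ g : G3, En (emb hE8 f3 g) v = ((g : GL chevE8.Idx (ZMod 3)) : Matrix chevE8.Idx chevE8.Idx (ZMod 3)).map
      (algebraMap (ZMod 3) KK) *ᵥ v := fun g => En_apply _ _
  rw [e] at hx hy
  simp only [e]
  refine sum_base _ _ (fun i => ((x ^ i * t : G3) : GL chevE8.Idx (ZMod 3)).1) 11 (fun u h1 h2 => ?_) v hx hy
  rw [← hQ u h1 h2]
  exact congrArg (u + ·) (Finset.sum_congr rfl fun i _ => Cfsg.Agent.H114.E8L.ac_mul _ _ _)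

theorem up {g : KK} (hg : g ^ 4 = 1 - g) {z : ↥(chevE8.group KK)} {X : SpecialLinearGroup (Fin 5) KK}
    (hN : z⁻¹ * phi chevE8 KK 3 1 z = NN KK)
    (hx : z⁻¹ * emb hE8 f3 (ph2 (ZMod 3) Mo) * z = ph2 KK X)
    (hy : z⁻¹ * emb hE8 f3 (ph2 (ZMod 3) Fr * ph1 (ZMod 3) Fr) * z = YY (wU g hg) (wU_pow hg))
    {t : G3} (h : Rel (ph2 (ZMod 3) Mo) (ph2 (ZMod 3) Fr * ph1 (ZMod 3) Fr) t)
    (htab : Tbl g (ph2 KK X))
    (hQ : ∀ v : L3, ac (ph2 (ZMod 3) Mo) v = v → ac (ph2 (ZMod 3) Fr * ph1 (ZMod 3) Fr) v = v →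
      v + ∑ i ∈ Finset.range 11, ac (ph2 (ZMod 3) Mo ^ i) (ac t v) = 0) :
    ∃ q : Mt KK, PNine g q ∧ ∀ A0 A1 : Mt KK, A0.trace = 0 → A1.trace = 0 →
      (((z⁻¹ * emb hE8 f3 t * z : ↥(chevE8.group KK)) : GL chevE8.Idx KK) : Matrix chevE8.Idx chevE8.Idx KK) *ᵥ
        iota g (A0, A1) = iota g (-(Mh q * A0ᵀ * q), -(Q2 (Mh q) * A1ᵀ * Q2 q)) := by
  let c : G3 →* ↥(chevE8.group KK) := ((MulAut.conj z⁻¹).toMonoidHom).comp (emb hE8 f3)
  have hc : ∀ a : G3, c a = z⁻¹ * emb hE8 f3 a * z := fun a => by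
    show z⁻¹ * emb hE8 f3 a * z⁻¹⁻¹ = _
    rw [inv_inv]
  have hR := h.map c
  rw [hc, hc, hc, hx, hy] at hR
  obtain ⟨T, hTd⟩ : ∃ T, T = z⁻¹ * emb hE8 f3 t * z := ⟨_, rfl⟩
  rw [← hTd] at hR ⊢
  obtain ⟨r1, r2, r3, r4, r5, r6⟩ := hR
  have hti : T⁻¹ = T := inv_eq_of_mul_eq_one_right r3
  have r6' : T * YY (wU g hg) (wU_pow hg) * T⁻¹ = (YY (wU g hg) (wU_pow hg))⁻¹ := by rw [hti]; exact r6
  obtain ⟨q0, q1, h0, h1, hs0, hs1, hio⟩ := Cfsg.Agent.H239.E8P.p7 (wU_pow hg) (wU_ne hg) r6' r3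
  have hphi : NN KK * phi chevE8 KK 3 1 T = T * NN KK := by
    rw [hTd, map_mul, map_mul, map_inv, Cfsg.Agent.H138.E8L.Zed.phi_emb3]
    have h4 : phi chevE8 KK 3 1 z = z * NN KK := by rw [← hN]; group
    rw [h4]
    group
  obtain ⟨Y, hYd⟩ : ∃ Y, Y = YY (wU g hg) (wU_pow hg) := ⟨_, rfl⟩
  obtain ⟨P, hPd⟩ : ∃ P, P = ph2 KK X := ⟨_, rfl⟩
  rw [← hPd] at r4
  rw [← hYd, ← hPd] at r5
  rw [← hYd] at r6
  have r7 : Y * P = P ^ 3 * Y := by rw [← r5]; group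
  have r8 : T * Y = Y⁻¹ * T := by rw [← r6]; simp only [mul_assoc, r3, mul_one]
  have r9 : T * P * T = P⁻¹ * T * P⁻¹ := by
    have h3 : P * T * (P * T) * (P * T) = 1 := by rw [← r4, pow_succ, pow_two]
    calc T * P * T = P⁻¹ * (P * T * (P * T) * (P * T)) * (T⁻¹ * P⁻¹) := by group
      _ = P⁻¹ * T * P⁻¹ := by rw [h3, hti]; group
  rw [hYd, hPd] at r7
  rw [hYd] at r8
  rw [hPd] at r9
  refine pnine hg htab r1 r3 r7 r2 r8 r9 ?_ hphi h0 h1 hs0 hs1 hio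
  intro v hxv hyv
  have key : ∀ a : G3, En (emb hE8 f3 a) (En z v) = En z (En (z⁻¹ * emb hE8 f3 a * z) v) := fun a => En_key _ _ _
  have g1 := hsum_emb hQ (En z v) (by rw [key, hx, hxv]) (by rw [key, hy, hyv])
  have g2 := congrArg (En z⁻¹) g1
  rw [map_add, map_sum, map_zero, En_inv] at g2
  rw [sX_apply, ← g2]
  refine congrArg (v + ·) (Finset.sum_congr rfl fun i _ => ?_)
  show _ = En z⁻¹ (En (emb hE8 f3 (ph2 (ZMod 3) Mo ^ i * t)) (En z v))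
  rw [key, En_inv, ← map_pow, ← En_mul, ← hx, hTd, ← hc, ← hc, ← hc, ← map_pow, ← map_mul]

end Cfsg.Agent.H238.E8
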