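import Cfsg.Agent.H238.E8.Frame
import Cfsg.Agent.H942.CB.Chk
import Mathlib

/-!
# Diagonal matrices in the frame of `E₈(K)` (helper238)
-/

set_option autoImplicit false
set_option linter.unusedSectionVars false

namespace Cfsg.Agent.H238.E8

open Matrix Cfsg Cfsg.Lie Cfsg.Agent.ChevalleyStructure Cfsg.Agent.ChevalleyStructure.Elts
open Cfsg.Agent.TitsThree.KExcRT Cfsg.Agent.AGraded
open Cfsg.Agent.H992.E8X hiding e8T
open Cfsg.Agent.GpExc.Field (emb emb_injective glMap glMap_xG coe_emb)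
open Cfsg.Agent.BpExc.FamUntw (phi)
open Cfsg.Agent.ChevalleyStructure.CoxeterGeomTypes Cfsg.Agent.ChevalleyStructure.RootVec
open Cfsg.Agent.ChevalleyStructure.HMatDiagAll (expo hMat_eq_diagonal)
open Cfsg.Agent.KFacts.RgdChevCoord Cfsg.Agent.H129.TorusChar Cfsg.Agent.Nodes.RGDChev
open Cfsg.Agent.H942.E8Tab Cfsg.Agent.H942.CB
open Cfsg.Agent.CTFrame.Weyl Cfsg.Agent.CTFrame.Torus

variable {k : Type} [Field k]

/-! ### the elements `h_r(u)` -/

/-- `h_r(u)` in the group -/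
def Hh (r : ℕ) (u : k) : ↥(chevE8.group k) := ⟨hG hE8 r u, hG_mem_group hE8 r u⟩

theorem Hh_mem {r : ℕ} (hr : r < 240) {u : k} (hu : u ≠ 0) : Hh r u ∈ TT chevE8 k := by
  show Hh r u ∈ (chevE8.diagonalSubgroup k).subgroupOf (chevE8.group k)
  rw [Subgroup.mem_subgroupOf]
  exact hG_mem_diagonal hE8 hr hu

theorem cX_Hh {r : ℕ} (hr : r < 240) {u : k} (hu : u ≠ 0) (s : Fin 240) :
    cX e8T (Hh r u) (vec chevE8 8 s.val) = u ^ expo chevE8 r s.val := by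
  have h1 := TT_diag' e8T (Hh_mem hr hu)
  have h2 : (((Hh r u : ↥(chevE8.group k)) : GL chevE8.Idx k) : Matrix chevE8.Idx chevE8.Idx k) = chevE8.hMat k r u :=
    coe_hG hE8 r u
  rw [h2, hMat_eq_diagonal hE8 hr hu] at h1
  have h3 := congrFun (congrFun h1 (Sum.inr s)) (Sum.inr s)
  rw [Matrix.diagonal_apply_eq, Matrix.diagonal_apply_eq] at h3
  exact h3.symm

/-! ### diagonal matrices -/

/-- transvections as a system -/
def tvx (i j : Fin 5) (a : k) : SpecialLinearGroup (Fin 5) k :=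
  if h : i = j then 1 else SpecialLinearGroup.transvection h a

theorem tvx_ne {i j : Fin 5} (h : i ≠ j) (a : k) : tvx i j a = SpecialLinearGroup.transvection h a := dif_neg h

/-- a diagonal matrix -/
def dg (d : Fin 5 → kˣ) (h : ∏ i, d i = 1) : SpecialLinearGroup (Fin 5) k :=
  ⟨Matrix.diagonal fun i => (d i : k), by
    rw [Matrix.det_diagonal, ← Units.coe_prod, h, Units.val_one]⟩

theorem dg_smul (d : Fin 5 → kˣ) (h : ∏ i, d i = 1) (v : Fin 5 → k) (i : Fin 5) : (dg d h • v) i = (d i : k) * v i := by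
  rw [Matrix.SpecialLinearGroup.smul_def]
  show (Matrix.diagonal (fun i => (d i : k)) *ᵥ v) i = _
  rw [Matrix.mulVec_diagonal]

/-- the partial products -/
def pp (d : Fin 5 → kˣ) : Fin 4 → kˣ := ![d 0, d 0 * d 1, d 0 * d 1 * d 2, d 0 * d 1 * d 2 * d 3]

theorem dg_eq (d : Fin 5 → kˣ) (h : ∏ i, d i = 1) : dg d h =
    t tvx 0 1 (pp d 0 : k) * t tvx 1 2 (pp d 1 : k) * t tvx 2 3 (pp d 2 : k) * t tvx 3 4 (pp d 3 : k) := by
  have hφ : ∀ i j (hij : i ≠ j) (a : k), (MonoidHom.id (SpecialLinearGroup (Fin 5) k)) (tvx i j a) =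
      SpecialLinearGroup.transvection hij a := fun i j hij a => tvx_ne hij a
  apply Cfsg.Agent.LieClassical.SLGen.smul_ext
  intro v
  funext i
  have h01 : (0 : Fin 5) ≠ 1 := by decide
  have h12 : (1 : Fin 5) ≠ 2 := by decide
  have h23 : (2 : Fin 5) ≠ 3 := by decide
  have h34 : (3 : Fin 5) ≠ 4 := by decide
  have e1 := fun v => phi_t hφ h01 (pp d 0).ne_zero v
  have e2 := fun v => phi_t hφ h12 (pp d 1).ne_zero v
  have e3 := fun v => phi_t hφ h23 (pp d 2).ne_zero v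
  have e4 := fun v => phi_t hφ h34 (pp d 3).ne_zero v
  simp only [MonoidHom.id_apply] at e1 e2 e3 e4
  rw [dg_smul, mul_smul, mul_smul, mul_smul, e1, e2, e3, e4]
  have hd4 : ((d 4 : kˣ) : k) = ((d 0 * d 1 * d 2 * d 3 : kˣ) : k)⁻¹ := by
    rw [← Units.val_inv_eq_inv_val]
    congr 1
    rw [eq_inv_iff_mul_eq_one, mul_comm]
    rw [Fin.prod_univ_five] at h
    exact h
  have n0 := (d 0).ne_zero
  have n1 := (d 1).ne_zero
  have n2 := (d 2).ne_zero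
  have n3 := (d 3).ne_zero
  fin_cases i
  · simp [df, pp]
  · simp [df, pp]
    field_simp
  · simp [df, pp]
    field_simp
  · simp [df, pp]
    field_simp
  · show (d 4 : k) * v 4 = _
    rw [hd4]
    simp [df, pp]

/-- the value of the weight -/
def wv (rt : Fin 5 → Fin 5 → ℕ) (d : Fin 5 → kˣ) (s : ℕ) : kˣ :=
  pp d 0 ^ expo chevE8 (rt 0 1) s * pp d 1 ^ expo chevE8 (rt 1 2) s * pp d 2 ^ expo chevE8 (rt 2 3) s *
    pp d 3 ^ expo chevE8 (rt 3 4) s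

theorem img_t {r : Fin 5 → Fin 5 → ℕ} {s : Fin 5 → Fin 5 → ℤ} {φ : SpecialLinearGroup (Fin 5) k →* ↥(chevE8.group k)}
    (hφ : ∀ i j (hij : i ≠ j) c, φ (SpecialLinearGroup.transvection hij c) = X (r i j) ((s i j : k) * c))
    {i j : Fin 5} (hij : i ≠ j) (h1 : s i j = 1) (h2 : s j i = 1) (h3 : r j i = chevE8.neg (r i j)) (u : k) :
    φ (t tvx i j u) = Hh (r i j) u := by
  have hX : ∀ c : k, φ (tvx i j c) = X (r i j) c := by
    intro c
    rw [tvx_ne hij, hφ, h1, Int.cast_one, one_mul]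
  have hY : ∀ c : k, φ (tvx j i c) = X (chevE8.neg (r i j)) c := by
    intro c
    rw [tvx_ne hij.symm, hφ, h2, Int.cast_one, one_mul, h3]
  have hw : ∀ c : k, φ (w tvx i j c) = ⟨nG hE8 (r i j) c, nG_mem_group hE8 _ _⟩ := by
    intro c
    unfold w
    rw [map_mul, map_mul, hX, hY]
    apply Subtype.ext
    show xG hE8 (r i j) c * xG hE8 _ _ * xG hE8 (r i j) c = nG hE8 (r i j) c
    rw [nG_def, mul_assoc]
  unfold t
  rw [map_mul, hw, hw]
  apply Subtype.ext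
  show nG hE8 (r i j) u * nG hE8 (r i j) (-1) = hG hE8 (r i j) u
  rw [hG_def]

theorem img_dg {r : Fin 5 → Fin 5 → ℕ} {s : Fin 5 → Fin 5 → ℤ} {φ : SpecialLinearGroup (Fin 5) k →* ↥(chevE8.group k)}
    (hφ : ∀ i j (hij : i ≠ j) c, φ (SpecialLinearGroup.transvection hij c) = X (r i j) ((s i j : k) * c))
    (hr : ∀ i j, r i j < 240) (hs : ∀ i : Fin 4, s i.castSucc i.succ = 1 ∧ s i.succ i.castSucc = 1)
    (hneg : ∀ a b, a ≠ b → r b a = chevE8.neg (r a b)) (d : Fin 5 → kˣ) (h : ∏ i, d i = 1) :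
    φ (dg d h) ∈ TT chevE8 k ∧ ∀ s : Fin 240, cX e8T (φ (dg d h)) (vec chevE8 8 s.val) = (wv r d s.val : k) := by
  have h01 : (0 : Fin 5) ≠ 1 := by decide
  have h12 : (1 : Fin 5) ≠ 2 := by decide
  have h23 : (2 : Fin 5) ≠ 3 := by decide
  have h34 : (3 : Fin 5) ≠ 4 := by decide
  have g0 := img_t hφ h01 (hs 0).1 (hs 0).2 (hneg _ _ h01) (pp d 0 : k)
  have g1 := img_t hφ h12 (hs 1).1 (hs 1).2 (hneg _ _ h12) (pp d 1 : k)
  have g2 := img_t hφ h23 (hs 2).1 (hs 2).2 (hneg _ _ h23) (pp d 2 : k)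
  have g3 := img_t hφ h34 (hs 3).1 (hs 3).2 (hneg _ _ h34) (pp d 3 : k)
  have m0 := Hh_mem (k := k) (hr 0 1) (pp d 0).ne_zero
  have m1 := Hh_mem (k := k) (hr 1 2) (pp d 1).ne_zero
  have m2 := Hh_mem (k := k) (hr 2 3) (pp d 2).ne_zero
  have m3 := Hh_mem (k := k) (hr 3 4) (pp d 3).ne_zero
  rw [dg_eq, map_mul, map_mul, map_mul, g0, g1, g2, g3]
  refine ⟨mul_mem (mul_mem (mul_mem m0 m1) m2) m3, fun s => ?_⟩
  rw [cX_mul e8T (mul_mem (mul_mem m0 m1) m2) m3, cX_mul e8T (mul_mem m0 m1) m2, cX_mul e8T m0 m1,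
    cX_Hh (hr 0 1) (pp d 0).ne_zero, cX_Hh (hr 1 2) (pp d 1).ne_zero, cX_Hh (hr 2 3) (pp d 2).ne_zero,
    cX_Hh (hr 3 4) (pp d 3).ne_zero]
  unfold wv
  rw [Units.val_mul, Units.val_mul, Units.val_mul, Units.val_zpow_eq_zpow_val, Units.val_zpow_eq_zpow_val,
    Units.val_zpow_eq_zpow_val, Units.val_zpow_eq_zpow_val]

theorem hs1 : ∀ i : Fin 4, sg1 i.castSucc i.succ = 1 ∧ sg1 i.succ i.castSucc = 1 := by decide
theorem hs2 : ∀ i : Fin 4, sg2 i.castSucc i.succ = 1 ∧ sg2 i.succ i.castSucc = 1 := by decide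

theorem ph1_dg (d : Fin 5 → kˣ) (h : ∏ i, d i = 1) : ph1 k (dg d h) ∈ TT chevE8 k ∧
    ∀ s : Fin 240, cX e8T (ph1 k (dg d h)) (vec chevE8 8 s.val) = (wv rt1 d s.val : k) :=
  img_dg (fun _ _ hij c => ph1_tv k hij c) rt1_lt hs1 tn1 d h

theorem ph2_dg (d : Fin 5 → kˣ) (h : ∏ i, d i = 1) : ph2 k (dg d h) ∈ TT chevE8 k ∧
    ∀ s : Fin 240, cX e8T (ph2 k (dg d h)) (vec chevE8 8 s.val) = (wv rt2 d s.val : k) :=
  img_dg (fun _ _ hij c => ph2_tv k hij c) rt2_lt hs2 tn2 d h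

end Cfsg.Agent.H238.E8
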